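import Mathlib.RingTheory.Nilpotent.GeometricallyReduced
import Mathlib.RingTheory.Unramified.Field
import Mathlib.RingTheory.Etale.Field
import Mathlib.RingTheory.Jacobson.Ring
import Mathlib.RingTheory.FiniteType
import Mathlib.FieldTheory.Perfect
import Mathlib.LinearAlgebra.TensorProduct.Basis
import Mathlib.RingTheory.TensorProduct.Maps
import Mathlib.FieldTheory.IsSepClosed
import Mathlib.RingTheory.Nullstellensatz

/-!
Reducedness of base changes of reduced algebras over perfect fields, and of algebras
with a separating family of points.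
-/

set_option autoImplicit false

universe u v w

open TensorProduct

namespace Groth.Agent.GeomRed

variable {k : Type*} [Field k]

/-- A jointly injective family of maps stays jointly injective after a base change. -/
lemma baseChange_jointly_injective {K A : Type*} [CommRing K] [Algebra k K] [CommRing A]
    [Algebra k A] {ι : Type*} {F : ι → Type*} [∀ i, CommRing (F i)] [∀ i, Algebra k (F i)]
    (σ : ∀ i, A →ₐ[k] F i) (h : ∀ a, (∀ i, σ i a = 0) → a = 0)
    (z : K ⊗[k] A) (hz : ∀ i, Algebra.TensorProduct.map (AlgHom.id k K) (σ i) z = 0) : z = 0 := by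
  let b := Module.Free.chooseBasis k K
  let e := TensorProduct.equivFinsuppOfBasisLeft (N := A) b
  apply e.injective
  rw [map_zero]
  ext j
  apply h
  intro i
  have key : ∀ w : K ⊗[k] A, σ i (e w j) =
      TensorProduct.equivFinsuppOfBasisLeft (N := F i) b
        (Algebra.TensorProduct.map (AlgHom.id k K) (σ i) w) j := by
    intro w
    induction w using TensorProduct.induction_on with
    | zero => simp
    | tmul x a => simp [e]
    | add x y hx hy => simp [hx, hy]
  rw [key, hz i]
  simp

lemma isReduced_baseChange_of_family {K A : Type*} [CommRing K] [Algebra k K] [CommRing A]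
    [Algebra k A] {ι : Type*} {F : ι → Type*} [∀ i, CommRing (F i)] [∀ i, Algebra k (F i)]
    (σ : ∀ i, A →ₐ[k] F i) (h : ∀ a, (∀ i, σ i a = 0) → a = 0)
    [∀ i, IsReduced (K ⊗[k] F i)] : IsReduced (K ⊗[k] A) :=
  ⟨fun z hz => baseChange_jointly_injective σ h z fun i => (hz.map _).eq_zero⟩

/-- An algebra with a separating family of rational points stays reduced after any base change. -/
lemma isReduced_baseChange_of_points {K A : Type*} [CommRing K] [IsReduced K] [Algebra k K]
    [CommRing A] [Algebra k A] {ι : Type*} (σ : ι → (A →ₐ[k] k))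
    (h : ∀ a, (∀ i, σ i a = 0) → a = 0) : IsReduced (K ⊗[k] A) := by
  have : IsReduced (K ⊗[k] k) :=
    isReduced_of_injective (Algebra.TensorProduct.rid k K K).toAlgHom
      (Algebra.TensorProduct.rid k K K).injective
  exact isReduced_baseChange_of_family σ h

lemma isReduced_field_tensor_algebraic [PerfectField k] (F : Type*) [Field F] [Algebra k F]
    (K : Type*) [Field K] [Algebra k K] [Algebra.IsAlgebraic k K] : IsReduced (F ⊗[k] K) := by
  apply IsReduced.tensorProduct_of_flat_of_forall_fg
  intro B hB
  have : Algebra.FiniteType k B := B.fg_iff_finiteType.mp hB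
  have : Algebra.IsIntegral k B :=
    ⟨fun x => (isIntegral_algHom_iff B.val Subtype.val_injective).1
      (Algebra.IsIntegral.isIntegral _)⟩
  have : Module.Finite k B := Algebra.IsIntegral.finite
  let _ : Field B := fieldOfFiniteDimensional k B
  have : Algebra.IsSeparable k B := Algebra.IsAlgebraic.isSeparable_of_perfectField
  have : Algebra.FormallyUnramified k B :=
    (Algebra.FormallyUnramified.iff_isSeparable k B).2 ‹_›
  exact Algebra.FormallyUnramified.isReduced_of_field F (F ⊗[k] B)

/-- A reduced algebra over a perfect field stays reduced after an algebraic field extension. -/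
lemma isReduced_baseChange_algebraic [PerfectField k] (A : Type*) [CommRing A] [Algebra k A]
    [IsReduced A] (K : Type*) [Field K] [Algebra k K] [Algebra.IsAlgebraic k K] :
    IsReduced (K ⊗[k] A) := by
  have : ∀ p : PrimeSpectrum A, IsReduced (K ⊗[k] p.asIdeal.ResidueField) := fun p =>
    have := isReduced_field_tensor_algebraic (k := k) p.asIdeal.ResidueField K
    isReduced_of_injective (Algebra.TensorProduct.comm k K p.asIdeal.ResidueField).toAlgHom
      (Algebra.TensorProduct.comm k K _).injective
  refine isReduced_baseChange_of_family (F := fun p : PrimeSpectrum A => p.asIdeal.ResidueField)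
    (fun p => IsScalarTower.toAlgHom k A p.asIdeal.ResidueField) fun a ha => ?_
  apply IsNilpotent.eq_zero
  rw [nilpotent_iff_mem_prime]
  intro J hJ
  exact Ideal.algebraMap_residueField_eq_zero.1 (ha ⟨J, hJ⟩)

/-- Points of a reduced algebra of finite type over an algebraically closed field are separating. -/
lemma exists_point_ne_zero [IsAlgClosed k] (A : Type*) [CommRing A] [Algebra k A]
    [Algebra.FiniteType k A] [IsReduced A] (a : A) (ha : a ≠ 0) :
    ∃ σ : A →ₐ[k] k, σ a ≠ 0 := by
  have : IsJacobsonRing A := isJacobsonRing_of_finiteType (A := k)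
  have hj : (⊥ : Ideal A).jacobson = ⊥ := by
    rw [isJacobsonRing_iff.1 ‹_› ⊥ (Ideal.isRadical_bot_iff.2 ‹_›)]
  have : a ∉ (⊥ : Ideal A).jacobson := by rw [hj]; simpa using ha
  rw [Ideal.jacobson, Submodule.mem_sInf] at this
  push Not at this
  obtain ⟨m, ⟨-, hm⟩, ham⟩ := this
  let _ : Field (A ⧸ m) := Ideal.Quotient.field m
  have : Module.Finite k (A ⧸ m) := finite_of_finite_type_of_isJacobsonRing k (A ⧸ m)
  let e : k ≃ₐ[k] A ⧸ m := AlgEquiv.ofBijective (Algebra.ofId k (A ⧸ m))
    (IsAlgClosed.algebraMap_bijective_of_isIntegral (k := k) (K := A ⧸ m))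
  refine ⟨e.symm.toAlgHom.comp (Ideal.Quotient.mkₐ k m), ?_⟩
  simpa [Ideal.Quotient.eq_zero_iff_mem] using ham

/-- A reduced algebra of finite type over a perfect field is reduced after any field extension. -/
lemma isReduced_baseChange_of_perfectField [PerfectField k] (A : Type*) [CommRing A] [Algebra k A]
    [Algebra.FiniteType k A] [IsReduced A] (K : Type*) [Field K] [Algebra k K] :
    IsReduced (K ⊗[k] A) := by
  let L := AlgebraicClosure K
  let Ω := AlgebraicClosure k
  let φ : Ω →ₐ[k] L := IsAlgClosed.lift
  let _ : Algebra Ω L := φ.toRingHom.toAlgebra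
  have : IsScalarTower k Ω L := IsScalarTower.of_algebraMap_eq fun x => (φ.commutes x).symm
  have : IsReduced (Ω ⊗[k] A) := isReduced_baseChange_algebraic A Ω
  have : IsReduced (L ⊗[Ω] (Ω ⊗[k] A)) :=
    isReduced_baseChange_of_points (ι := Ω ⊗[k] A →ₐ[Ω] Ω) id fun a ha => by
      by_contra h
      obtain ⟨σ, hσ⟩ := exists_point_ne_zero (k := Ω) _ a h
      exact hσ (ha σ)
  have : IsReduced (L ⊗[k] A) :=
    isReduced_of_injective (Algebra.TensorProduct.cancelBaseChange k Ω Ω L A).symm.toAlgHom
      (Algebra.TensorProduct.cancelBaseChange k Ω Ω L A).symm.injective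
  exact isReduced_of_injective
    (Algebra.TensorProduct.map (IsScalarTower.toAlgHom k K L) (AlgHom.id k A))
    (Module.Flat.rTensor_preserves_injective_linearMap _
      (RingHom.injective (algebraMap K L)))

end Groth.Agent.GeomRed
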