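import Mathlib
import Groth.Agent.GeomRed.Alg

/-! Over a perfect field the tensor product of any two reduced algebras is reduced, and the
product of any two reduced schemes is reduced. -/

universe u

open TensorProduct AlgebraicGeometry CategoryTheory CategoryTheory.Limits

namespace Groth.Agent.GeomRed

theorem isReduced_tensorProduct_of_perfectField (k A B : Type u) [Field k] [PerfectField k]
    [CommRing A] [Algebra k A] [CommRing B] [Algebra k B] [_root_.IsReduced A] [_root_.IsReduced B] :
    _root_.IsReduced (A ⊗[k] B) := by
  apply IsReduced.tensorProduct_of_flat_of_forall_fg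
  intro B' hB'
  haveI : Algebra.FiniteType k B' := B'.fg_iff_finiteType.mp hB'
  haveI : _root_.IsReduced B' := isReduced_of_injective B'.val Subtype.val_injective
  have hB : ∀ p : PrimeSpectrum A, _root_.IsReduced (B' ⊗[k] p.asIdeal.ResidueField) := fun p =>
    have := isReduced_baseChange_of_perfectField (k := k) B' p.asIdeal.ResidueField
    isReduced_of_injective (Algebra.TensorProduct.comm k B' p.asIdeal.ResidueField).toAlgHom
      (Algebra.TensorProduct.comm k B' _).injective
  have : _root_.IsReduced (B' ⊗[k] A) := by
    refine isReduced_baseChange_of_family (F := fun p : PrimeSpectrum A => p.asIdeal.ResidueField)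
      (fun p => IsScalarTower.toAlgHom k A p.asIdeal.ResidueField) fun a ha => ?_
    apply IsNilpotent.eq_zero
    rw [nilpotent_iff_mem_prime]
    intro J hJ
    exact Ideal.algebraMap_residueField_eq_zero.1 (ha ⟨J, hJ⟩)
  exact isReduced_of_injective (Algebra.TensorProduct.comm k A B').toAlgHom
    (Algebra.TensorProduct.comm k A B').injective

theorem isReduced_pullback_of_perfectField {k : Type u} [Field k] [PerfectField k]
    {X Y : Scheme.{u}} (f : X ⟶ Spec (CommRingCat.of k)) (g : Y ⟶ Spec (CommRingCat.of k))
    [AlgebraicGeometry.IsReduced X] [AlgebraicGeometry.IsReduced Y] :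
    AlgebraicGeometry.IsReduced (pullback f g) := by
  apply +allowSynthFailures @IsReduced.of_openCover _
    (Scheme.Pullback.openCoverOfLeftRight X.affineOpenCover.openCover Y.affineOpenCover.openCover f g)
  intro ij
  suffices ∀ (a : X.affineOpenCover.I₀) (b : Y.affineOpenCover.I₀),
      AlgebraicGeometry.IsReduced
        (pullback (X.affineOpenCover.f a ≫ f) (Y.affineOpenCover.f b ≫ g)) from this _ _
  intro a b
  obtain ⟨φ, hφ⟩ := Spec.map_surjective (X.affineOpenCover.f a ≫ f)
  obtain ⟨ψ, hψ⟩ := Spec.map_surjective (Y.affineOpenCover.f b ≫ g)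
  rw [← hφ, ← hψ]
  haveI := affine_isReduced_iff _ |>.mp (isReduced_of_isOpenImmersion (X.affineOpenCover.f a))
  haveI := affine_isReduced_iff _ |>.mp (isReduced_of_isOpenImmersion (Y.affineOpenCover.f b))
  algebraize [φ.hom, ψ.hom]
  haveI := isReduced_tensorProduct_of_perfectField k (X.affineOpenCover.X a) (Y.affineOpenCover.X b)
  haveI := affine_isReduced_iff (.of ((X.affineOpenCover.X a) ⊗[k] (Y.affineOpenCover.X b))) |>.mpr
    this
  exact isReduced_of_isOpenImmersion
    (pullbackSpecIso k (X.affineOpenCover.X a) (Y.affineOpenCover.X b)).hom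

end Groth.Agent.GeomRed
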