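import Groth.Agent.GeomRed.Alg
import Mathlib.AlgebraicGeometry.Geometrically.Reduced
import Mathlib.AlgebraicGeometry.Morphisms.FiniteType

/-! A reduced scheme locally of finite type over a perfect field is geometrically reduced. -/

set_option autoImplicit false

universe u

open CategoryTheory Limits AlgebraicGeometry TensorProduct

namespace Groth.Agent.GeomRed

lemma isReduced_pullback_Spec {k K : Type u} [Field k] [PerfectField k] [Field K]
    {A : CommRingCat.{u}} (g : Spec A ⟶ Spec (CommRingCat.of k)) [LocallyOfFiniteType g]
    [AlgebraicGeometry.IsReduced (Spec A)]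
    (φ : CommRingCat.of k ⟶ CommRingCat.of K) :
    AlgebraicGeometry.IsReduced (pullback g (Spec.map φ)) := by
  obtain ⟨ψ, rfl⟩ := Spec.map_surjective g
  algebraize [φ.hom, ψ.hom]
  have : Algebra.FiniteType k A :=
    (RingHom.finiteType_algebraMap).1 ((HasRingHomProperty.Spec_iff (P := @LocallyOfFiniteType)).1 ‹LocallyOfFiniteType (Spec.map ψ)›)
  have : _root_.IsReduced A := (affine_isReduced_iff A).1 ‹_›
  have : _root_.IsReduced (K ⊗[k] A) := isReduced_baseChange_of_perfectField A K
  have : _root_.IsReduced (A ⊗[k] K) :=
    isReduced_of_injective (Algebra.TensorProduct.comm k A K).toAlgHom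
      (Algebra.TensorProduct.comm k A K).injective
  exact isReduced_of_isOpenImmersion (pullbackSpecIso k A K).hom

/-- A reduced scheme locally of finite type over a perfect field is geometrically reduced. -/
lemma geometricallyReduced_of_perfectField {k : Type u} [Field k] [PerfectField k]
    {X : Scheme.{u}} (f : X ⟶ Spec (CommRingCat.of k)) [LocallyOfFiniteType f]
    [AlgebraicGeometry.IsReduced X] : GeometricallyReduced f := by
  refine ⟨fun K _ y Y fst snd h => ?_⟩
  obtain ⟨φ, rfl⟩ := Spec.map_surjective y
  have hred : AlgebraicGeometry.IsReduced (pullback f (Spec.map φ)) := by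
    apply +allowSynthFailures @IsReduced.of_openCover
      (𝒰 := Scheme.Pullback.openCoverOfLeft X.affineCover f (Spec.map φ))
    intro i
    have h₁ := isReduced_of_isOpenImmersion (X.affineCover.f i)
    have h₂ : LocallyOfFiniteType (X.affineCover.f i ≫ f) :=
      MorphismProperty.comp_mem _ _ _ (inferInstanceAs (LocallyOfFiniteType (X.affineCover.f i))) ‹_›
    exact @isReduced_pullback_Spec _ _ _ _ _ _ (X.affineCover.f i ≫ f) h₂ h₁ φ
  exact isReduced_of_isOpenImmersion h.isoPullback.hom

end Groth.Agent.GeomRed
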